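import Groth.Agent.Lib.StrongApproxNF28.Approx
import Groth.Agent.Lib.Dim.Ring
import Mathlib.Algebra.MvPolynomial.Funext
import Mathlib.RingTheory.KrullDimension.Polynomial
import Mathlib.RingTheory.Nilpotent.Lemmas

/-!
# Strong approximation for complements of codimension two subsets of affine space
-/

set_option linter.style.haveILetI false

universe u

open NumberField IsDedekindDomain WithZero MvPolynomial

namespace GrothLib.StrongApproxNF28

section algebra

variable {k : Type u} [Field k]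

/-- A map from a polynomial ring to a finite type algebra of smaller dimension is not injective. -/
theorem exists_ne_zero_map_eq_zero {n : ℕ} {R : Type u} [CommRing R] [Algebra k R] [Algebra.FiniteType k R]
    (φ : MvPolynomial (Fin n) k →ₐ[k] R) (hdim : ringKrullDim R < (n : WithBot ℕ∞)) :
    ∃ h, h ≠ 0 ∧ φ h = 0 := by
  classical
  by_contra hc
  push Not at hc
  have hinj : Function.Injective φ := (injective_iff_map_eq_zero φ).mpr fun x hx => by
    by_contra hx0; exact hc x hx0 hx
  haveI : IsNoetherianRing R := Algebra.FiniteType.isNoetherianRing k R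
  have hfin := minimalPrimes.finite_of_isNoetherianRing R
  have h1 : hfin.toFinset.inf (fun P => P.comap φ.toRingHom) ≤ ⊥ := fun x hx => by
    rw [Submodule.mem_finsetInf] at hx
    have : φ x ∈ nilradical R := by
      rw [nilradical, ← Ideal.sInf_minimalPrimes, Submodule.mem_sInf]
      exact fun P hP => hx P (hfin.mem_toFinset.mpr hP)
    obtain ⟨m, hm⟩ := this
    exact eq_zero_of_pow_eq_zero (hinj (((map_pow φ x m).trans hm).trans (map_zero φ).symm))
  obtain ⟨P, hP, hle⟩ := (Ideal.IsPrime.inf_le' (Ideal.isPrime_bot)).mp h1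
  haveI : P.IsPrime := (hfin.mem_toFinset.mp hP).1.1
  have hinj' : Function.Injective ((Ideal.Quotient.mkₐ k P).comp φ) := (injective_iff_map_eq_zero _).mpr fun x hx =>
    (Submodule.mem_bot _).mp (hle (Ideal.mem_comap.mpr (Ideal.Quotient.eq_zero_iff_mem.mp hx)))
  obtain ⟨d, hd, hdim'⟩ := GrothLib.Dim.exists_nat_trdeg_eq_and_ringKrullDim_eq k (R ⧸ P)
  have h2 := trdeg_le_of_injective _ hinj'
  rw [MvPolynomial.trdeg_of_isDomain, hd] at h2
  have h3 : n ≤ d := by simpa using h2
  have h4 := (ringKrullDim_quotient_le P).trans_lt hdim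
  rw [hdim'] at h4
  have h5 : d < n := by exact_mod_cast h4
  omega

theorem finiteType_quotient {n : ℕ} (I : Ideal (MvPolynomial (Fin n) k)) :
    Algebra.FiniteType k (Polynomial (MvPolynomial (Fin n) k ⧸ I)) :=
  Algebra.FiniteType.trans (S := MvPolynomial (Fin n) k ⧸ I) inferInstance inferInstance

theorem add_one_lt_of_add_two_le (d : WithBot ℕ∞) (n : ℕ) (h : d + 2 ≤ (n : WithBot ℕ∞)) :
    d + 1 < (n : WithBot ℕ∞) := by
  induction d using WithBot.recBotCoe with
  | bot => rw [WithBot.bot_add]; exact bot_lt_iff_ne_bot.mpr (by simp)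
  | coe d =>
    induction d using ENat.recTopCoe with
    | top =>
      rw [show (2 : WithBot ℕ∞) = ((2 : ℕ∞) : WithBot ℕ∞) from rfl, ← WithBot.coe_add, top_add,
        show (n : WithBot ℕ∞) = ((n : ℕ∞) : WithBot ℕ∞) from rfl, WithBot.coe_le_coe, top_le_iff] at h
      exact absurd h (ENat.natCast_ne_top n)
    | coe d =>
      norm_cast at h ⊢
      have h' : d + 2 ≤ n := by exact_mod_cast h
      omega

/-- Lines through a point outside a codimension two set, in a general direction, miss it. -/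
theorem exists_direction_polynomial {n m : ℕ} (F : Fin m → MvPolynomial (Fin n) k)
    (hcodim : ringKrullDim (MvPolynomial (Fin n) k ⧸ Ideal.span (Set.range F)) + 2 ≤ (n : WithBot ℕ∞))
    (A : Fin n → k) (hA : ∃ j, aeval A (F j) ≠ 0) :
    ∃ h : MvPolynomial (Fin n) k, h ≠ 0 ∧ ∀ B : Fin n → k, eval B h ≠ 0 →
      Ideal.span (Set.range fun j => aeval (fun i => Polynomial.C (A i) + Polynomial.X * Polynomial.C (B i)) (F j)) = ⊤ := by
  let S := MvPolynomial (Fin n) k ⧸ Ideal.span (Set.range F)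
  haveI : Algebra.FiniteType k (Polynomial S) := finiteType_quotient _
  haveI : IsNoetherianRing S := inferInstance
  let φ : MvPolynomial (Fin n) k →ₐ[k] Polynomial S :=
    aeval fun i => Polynomial.X * Polynomial.C (Ideal.Quotient.mk (Ideal.span (Set.range F)) (X i - C (A i)))
  obtain ⟨h, h0, hh⟩ := exists_ne_zero_map_eq_zero φ (by
    rw [Polynomial.ringKrullDim_of_isNoetherianRing (R := S)]
    exact add_one_lt_of_add_two_le _ _ hcodim)
  refine ⟨h, h0, fun B hB => ?_⟩
  by_contra htop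
  obtain ⟨M, hM, hle⟩ := Ideal.exists_le_maximal _ htop
  letI := Ideal.Quotient.field M
  let q : Polynomial k →ₐ[k] Polynomial k ⧸ M := Ideal.Quotient.mkₐ k M
  let t₀ := q Polynomial.X
  let al := algebraMap k (Polynomial k ⧸ M)
  let z : Fin n → Polynomial k ⧸ M := fun i => al (A i) + t₀ * al (B i)
  have hz : ∀ j, aeval z (F j) = 0 := fun j => by
    have e : (fun i => q (Polynomial.C (A i) + Polynomial.X * Polynomial.C (B i))) = z := funext fun i => by
      simp only [map_add, map_mul, z, t₀, al, ← Polynomial.algebraMap_eq, AlgHom.commutes]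
    have : q (aeval (fun i => Polynomial.C (A i) + Polynomial.X * Polynomial.C (B i)) (F j)) = 0 :=
      Ideal.Quotient.eq_zero_iff_mem.mpr (hle (Ideal.subset_span ⟨j, rfl⟩))
    rwa [← AlgHom.comp_apply, comp_aeval, e] at this
  have ht : t₀ ≠ 0 := fun ht => by
    obtain ⟨j, hj⟩ := hA
    refine hj (al.injective ?_)
    rw [map_zero, ← hz j, ← aeval_algebraMap_apply]
    congr 2
    funext i
    simp [z, ht, al]
  let ψ₀ : S →ₐ[k] Polynomial k ⧸ M := Ideal.Quotient.liftₐ _ (aeval z) fun x hx => by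
    have : Ideal.span (Set.range F) ≤ RingHom.ker (aeval z : MvPolynomial (Fin n) k →ₐ[k] _) :=
      Ideal.span_le.mpr (by rintro _ ⟨j, rfl⟩; exact hz j)
    exact this hx
  let ψ : Polynomial S →+* Polynomial k ⧸ M := Polynomial.eval₂RingHom ψ₀.toRingHom t₀⁻¹
  have hψ : ∀ x, ψ (φ x) = al (eval B x) := fun x => by
    induction x using MvPolynomial.induction_on with
    | C a =>
      have : φ (C a) = Polynomial.C (algebraMap k S a) := by simp [φ]; rfl
      rw [this]
      simp [ψ, al]
    | add p q hp hq => simp [hp, hq]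
    | mul_X p i hp =>
      rw [map_mul, map_mul, hp, eval_mul, eval_X, map_mul]
      congr 1
      simp only [φ, ψ, aeval_X, Polynomial.coe_eval₂RingHom, Polynomial.eval₂_mul, Polynomial.eval₂_X, Polynomial.eval₂_C]
      show t₀⁻¹ * ψ₀ (Ideal.Quotient.mk _ (X i - C (A i))) = al (B i)
      rw [show ψ₀ (Ideal.Quotient.mk _ (X i - C (A i))) = aeval z (X i - C (A i)) from rfl, map_sub, aeval_X, aeval_C]
      simp only [z, al, add_sub_cancel_left]
      rw [inv_mul_cancel_left₀ ht]
  refine hB (al.injective ?_)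
  rw [map_zero, ← hψ, hh, map_zero]

end algebra

section valuation

variable {k : Type u} [Field k] [NumberField k] {n : ℕ} {F : Type*} [Field F] [Algebra k F]
  {Γ : Type*} [LinearOrderedCommGroupWithZero Γ] (w : Valuation F Γ)

theorem val_aeval_le_one (hO : ∀ a : 𝓞 k, w (algebraMap k F a) ≤ 1) (f : MvPolynomial (Fin n) (𝓞 k))
    {x : Fin n → F} (hx : ∀ i, w (x i) ≤ 1) :
    w (aeval x (MvPolynomial.map (algebraMap (𝓞 k) k) f)) ≤ 1 := by
  induction f using MvPolynomial.induction_on with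
  | C a => simpa using hO a
  | add p q hp hq => rw [map_add, map_add]; exact w.map_add_le hp hq
  | mul_X p i hp =>
    rw [map_mul, map_mul, MvPolynomial.map_X, aeval_X, map_mul]
    exact mul_le_one' hp (hx i)

theorem val_aeval_sub_lt_one (hO : ∀ a : 𝓞 k, w (algebraMap k F a) ≤ 1) (f : MvPolynomial (Fin n) (𝓞 k))
    {x y : Fin n → F} (hx : ∀ i, w (x i) ≤ 1) (hy : ∀ i, w (y i) ≤ 1) (hxy : ∀ i, w (x i - y i) < 1) :
    w (aeval x (MvPolynomial.map (algebraMap (𝓞 k) k) f) - aeval y (MvPolynomial.map (algebraMap (𝓞 k) k) f)) < 1 := by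
  induction f using MvPolynomial.induction_on with
  | C a => simp
  | add p q hp hq =>
    rw [map_add, map_add, map_add, add_sub_add_comm]
    exact w.map_add_lt hp hq
  | mul_X p i hp =>
    simp only [map_mul, MvPolynomial.map_X, aeval_X]
    rw [show ∀ a b c d : F, a * b - c * d = (a - c) * b + c * (b - d) by intros; ring]
    refine w.map_add_lt ?_ ?_
    · rw [map_mul]; exact (mul_le_of_le_one_right' (hx i)).trans_lt hp
    · rw [map_mul]; exact (mul_le_of_le_one_left' (val_aeval_le_one w hO p hy)).trans_lt (hxy i)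

theorem exists_eq_one_of_close (hO : ∀ a : 𝓞 k, w (algebraMap k F a) ≤ 1) {m : ℕ}
    (f : Fin m → MvPolynomial (Fin n) (𝓞 k))
    {x y : Fin n → F} (hx : ∀ i, w (x i) ≤ 1) (hy : ∀ i, w (y i) ≤ 1) (hxy : ∀ i, w (x i - y i) < 1)
    (h : ∃ j, w (aeval y (MvPolynomial.map (algebraMap (𝓞 k) k) (f j))) = 1) :
    ∃ j, w (aeval x (MvPolynomial.map (algebraMap (𝓞 k) k) (f j))) = 1 := by
  obtain ⟨j, hj⟩ := h
  have := val_aeval_sub_lt_one w hO (f j) hx hy hxy
  exact ⟨j, (w.map_eq_of_sub_lt (this.trans_eq hj.symm)).trans hj⟩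

end valuation

section main

variable {k : Type u} [Field k] [NumberField k] {n m : ℕ}

theorem v_algebraMap (v : HeightOneSpectrum (𝓞 k)) (x : k) :
    Valued.v (algebraMap k (v.adicCompletion k) x) = v.valuation k x := by
  rw [HeightOneSpectrum.algebraMap_adicCompletion, Function.comp_apply, HeightOneSpectrum.valuedAdicCompletion_eq_valuation']
  rfl

theorem continuous_aeval {E : Type*} [CommRing E] [TopologicalSpace E] [IsTopologicalRing E] [Algebra k E]
    (p : MvPolynomial (Fin n) k) : Continuous fun y : Fin n → E => aeval y p := by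
  induction p using MvPolynomial.induction_on with
  | C a => simp only [aeval_C]; fun_prop
  | add p q hp hq => simp only [map_add]; exact hp.add hq
  | mul_X p i hp => simp only [map_mul, aeval_X]; exact hp.mul (continuous_apply i)

theorem isOpen_v_lt_one (v : HeightOneSpectrum (𝓞 k)) (c : v.adicCompletion k) :
    IsOpen {y : v.adicCompletion k | Valued.v (y - c) < 1} := by
  have h := Valued.isOpen_ball (v.adicCompletion k) (1 : MonoidWithZeroHom.ValueGroup₀ _)
  simp only [Valuation.restrict_lt_one_iff] at h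
  exact h.preimage (continuous_id.sub continuous_const)

theorem isOpen_v_eq_one (v : HeightOneSpectrum (𝓞 k)) :
    IsOpen {y : v.adicCompletion k | Valued.v y = 1} := by
  refine isOpen_iff_mem_nhds.mpr fun y (hy : Valued.v y = 1) =>
    Filter.mem_of_superset ((isOpen_v_lt_one v y).mem_nhds (by simp)) fun z (hz : Valued.v (z - y) < 1) => ?_
  exact (Valuation.map_eq_of_sub_lt _ (hz.trans_eq hy.symm)).trans hy

/-- Strong approximation in a product of coordinates. -/
theorem strongApprox_pi (v₀ : HeightOneSpectrum (𝓞 k)) (S : Finset (HeightOneSpectrum (𝓞 k))) (hv₀ : v₀ ∉ S)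
    (Uf : (v : HeightOneSpectrum (𝓞 k)) → Set (Fin n → v.adicCompletion k))
    (hUf : ∀ v ∈ S, IsOpen (Uf v) ∧ (Uf v).Nonempty)
    (Ui : (w : InfinitePlace k) → Set (Fin n → w.Completion)) (hUi : ∀ w, IsOpen (Ui w) ∧ (Ui w).Nonempty) :
    ∃ A : Fin n → k, (∀ v, v ∉ S → v ≠ v₀ → ∀ i, v.valuation k (A i) ≤ 1) ∧
      (∀ v ∈ S, (fun i => algebraMap k (v.adicCompletion k) (A i)) ∈ Uf v) ∧
      ∀ w, (fun i => algebraMap k w.Completion (A i)) ∈ Ui w := by
  classical
  have hf : ∀ v, ∃ u : Fin n → Set (v.adicCompletion k), v ∈ S →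
      (∀ i, IsOpen (u i) ∧ (u i).Nonempty) ∧ Set.univ.pi u ⊆ Uf v := fun v => by
    by_cases hv : v ∈ S
    · obtain ⟨hop, P, hP⟩ := hUf v hv
      obtain ⟨u, hu, hsub⟩ := isOpen_pi_iff'.mp hop P hP
      exact ⟨u, fun _ => ⟨fun i => ⟨(hu i).1, P i, (hu i).2⟩, hsub⟩⟩
    · exact ⟨fun _ => ∅, fun h => absurd h hv⟩
  have hi : ∀ w, ∃ u : Fin n → Set (InfinitePlace.Completion w),
      (∀ i, IsOpen (u i) ∧ (u i).Nonempty) ∧ Set.univ.pi u ⊆ Ui w := fun w => by
    obtain ⟨hop, P, hP⟩ := hUi w
    obtain ⟨u, hu, hsub⟩ := isOpen_pi_iff'.mp hop P hP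
    exact ⟨u, fun i => ⟨(hu i).1, P i, (hu i).2⟩, hsub⟩
  choose uf huf using hf
  choose ui hui using hi
  have h : ∀ i, ∃ x : k, _ := fun i => strongApprox v₀ S hv₀ (fun v => uf v i)
    (fun v hv => (huf v hv).1 i) (fun w => ui w i) (fun w => (hui w).1 i)
  choose A hA1 hA2 hA3 using h
  exact ⟨A, fun v hv hv' i => hA1 i v hv hv', fun v hv => (huf v hv).2 fun i _ => hA2 i v hv,
    fun w => (hui w).2 fun i _ => hA3 i w⟩

theorem main (hn : 1 ≤ n) (f : Fin m → MvPolynomial (Fin n) (𝓞 k))
    (hcodim : ringKrullDim (MvPolynomial (Fin n) k ⧸ Ideal.span (Set.range fun j =>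
        MvPolynomial.map (algebraMap (𝓞 k) k) (f j))) + 2 ≤ (n : WithBot ℕ∞))
    (v₀ : HeightOneSpectrum (𝓞 k)) (Sf : Finset (HeightOneSpectrum (𝓞 k))) (hv₀ : v₀ ∈ Sf)
    (Pf : (v : HeightOneSpectrum (𝓞 k)) → (Fin n → v.adicCompletion k))
    (Nf : (v : HeightOneSpectrum (𝓞 k)) → Set (Fin n → v.adicCompletion k))
    (hNf : ∀ v ∈ Sf, v ≠ v₀ → IsOpen (Nf v) ∧ Pf v ∈ Nf v)
    (Pi : (w : InfinitePlace k) → (Fin n → w.Completion))
    (hPi : ∀ w, ∃ j, MvPolynomial.aeval (Pi w) (MvPolynomial.map (algebraMap (𝓞 k) k) (f j)) ≠ 0)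
    (Ni : (w : InfinitePlace k) → Set (Fin n → w.Completion))
    (hNi : ∀ w, IsOpen (Ni w) ∧ Pi w ∈ Ni w)
    (T : Finset (HeightOneSpectrum (𝓞 k))) (hT : Disjoint T Sf)
    (Q : (v : HeightOneSpectrum (𝓞 k)) → (Fin n → v.adicCompletion k))
    (hQ : ∀ v ∈ T, (∀ i, Q v i ∈ v.adicCompletionIntegers k) ∧ ∃ j, Valued.v (MvPolynomial.aeval (Q v)
      (MvPolynomial.map (algebraMap (𝓞 k) k) (f j))) = 1)
    (W : (v : HeightOneSpectrum (𝓞 k)) → Set (Fin n → v.adicCompletion k))
    (hW : ∀ v ∈ T, IsOpen (W v) ∧ Q v ∈ W v)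
    (hne : ∀ v : HeightOneSpectrum (𝓞 k), v ∉ Sf → ∃ R : Fin n → v.adicCompletion k,
      (∀ i, R i ∈ v.adicCompletionIntegers k) ∧ ∃ j, Valued.v (MvPolynomial.aeval R
        (MvPolynomial.map (algebraMap (𝓞 k) k) (f j))) = 1) :
    ∃ P : Fin n → k,
      (∀ v : HeightOneSpectrum (𝓞 k), v ∉ Sf → (∀ i, v.valuation k (P i) ≤ 1) ∧
        ∃ j, v.valuation k (MvPolynomial.aeval P (MvPolynomial.map (algebraMap (𝓞 k) k) (f j))) = 1) ∧
      (∀ v ∈ Sf, v ≠ v₀ → (fun i => algebraMap k (v.adicCompletion k) (P i)) ∈ Nf v) ∧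
      (∀ w : InfinitePlace k, (fun i => algebraMap k w.Completion (P i)) ∈ Ni w) ∧
      (∀ v ∈ T, (fun i => algebraMap k (v.adicCompletion k) (P i)) ∈ W v) := by
  classical
  let F : Fin m → MvPolynomial (Fin n) k := fun j => MvPolynomial.map (algebraMap (𝓞 k) k) (f j)
  have hO : ∀ (v : HeightOneSpectrum (𝓞 k)) (a : 𝓞 k), Valued.v (algebraMap k (v.adicCompletion k) a) ≤ 1 :=
    fun v a => by rw [v_algebraMap]; exact v.valuation_le_one a
  have hOk : ∀ (v : HeightOneSpectrum (𝓞 k)) (a : 𝓞 k), v.valuation k (algebraMap k k a) ≤ 1 :=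
    fun v a => v.valuation_le_one a
  have haeval : ∀ (E : Type u) [CommRing E] [Algebra k E] (x : Fin n → k) (j),
      aeval (fun i => algebraMap k E (x i)) (F j) = algebraMap k E (aeval x (F j)) := fun E _ _ x j =>
    aeval_algebraMap_apply E x (F j)
  -- the base point
  let S₁ := Sf.erase v₀ ∪ T
  let good : (v : HeightOneSpectrum (𝓞 k)) → Set (Fin n → v.adicCompletion k) := fun v =>
    {y | (∀ i, y i ∈ v.adicCompletionIntegers k) ∧ ∃ j, Valued.v (aeval y (F j)) = 1}
  have hgood : ∀ v, IsOpen (good v) := fun v => by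
    simp only [good, Set.setOf_and, Set.setOf_forall, Set.setOf_exists]
    exact (isOpen_iInter_of_finite fun i => (Valued.isOpen_valuationSubring _).preimage (continuous_apply i)).inter
      (isOpen_iUnion fun j => (isOpen_v_eq_one v).preimage (continuous_aeval (F j)))
  let U₁ : (v : HeightOneSpectrum (𝓞 k)) → Set (Fin n → v.adicCompletion k) := fun v =>
    if v ∈ T then W v ∩ good v else Nf v
  have hS₁ : v₀ ∉ S₁ := fun h => by
    rcases Finset.mem_union.mp h with h | h
    · exact (Finset.mem_erase.mp h).1 rfl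
    · exact Finset.disjoint_left.mp hT h hv₀
  have hSfT : ∀ v ∈ Sf, v ∉ T := fun v hv h => Finset.disjoint_left.mp hT h hv
  have hU₁ : ∀ v ∈ S₁, IsOpen (U₁ v) ∧ (U₁ v).Nonempty := fun v hv => by
    by_cases hvT : v ∈ T
    · simp only [U₁, if_pos hvT]
      exact ⟨(hW v hvT).1.inter (hgood v), Q v, (hW v hvT).2, hQ v hvT⟩
    · simp only [U₁, if_neg hvT]
      rcases Finset.mem_union.mp hv with h | h
      · obtain ⟨h0, hS⟩ := Finset.mem_erase.mp h
        exact ⟨(hNf v hS h0).1, Pf v, (hNf v hS h0).2⟩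
      · exact absurd h hvT
  obtain ⟨A, hA1, hA2, hA3⟩ := strongApprox_pi v₀ S₁ hS₁ U₁ hU₁
    (fun w => Ni w ∩ {y | ∃ j, aeval y (F j) ≠ 0})
    (fun w => ⟨(hNi w).1.inter (by
      simp only [Set.setOf_exists]
      exact isOpen_iUnion fun j => isOpen_ne.preimage (continuous_aeval (F j))), Pi w, (hNi w).2, hPi w⟩)
  have hAT : ∀ v ∈ T, (fun i => algebraMap k (v.adicCompletion k) (A i)) ∈ W v ∩ good v := fun v hv => by
    have := hA2 v (Finset.mem_union_right _ hv)
    simpa [U₁, hv] using this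
  have hAint : ∀ v, v ∉ Sf → ∀ i, v.valuation k (A i) ≤ 1 := fun v hv i => by
    by_cases hvT : v ∈ T
    · have := (hAT v hvT).2.1 i
      rwa [HeightOneSpectrum.mem_adicCompletionIntegers, v_algebraMap] at this
    · refine hA1 v (fun h => ?_) (fun h => hv (h ▸ hv₀)) i
      rcases Finset.mem_union.mp h with h | h
      · exact hv (Finset.mem_of_mem_erase h)
      · exact hvT h
  obtain ⟨j₀, hj₀⟩ : ∃ j, aeval A (F j) ≠ 0 := by
    obtain ⟨w⟩ := (inferInstance : Nonempty (InfinitePlace k))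
    obtain ⟨j, hj⟩ := (hA3 w).2
    rw [haeval] at hj
    exact ⟨j, fun h => hj (by rw [h, map_zero])⟩
  -- the places where the base point is bad
  let bad : Set (HeightOneSpectrum (𝓞 k)) := {v | v ∉ Sf ∧ ∀ j, v.valuation k (aeval A (F j)) < 1}
  have hbad : bad.Finite := (HeightOneSpectrum.Support.finite (𝓞 k) (aeval A (F j₀))⁻¹).subset fun v hv => by
    show 1 < v.valuation k (aeval A (F j₀))⁻¹
    rw [map_inv₀, one_lt_inv₀ (zero_lt_iff.mpr ((Valuation.ne_zero_iff _).mpr hj₀))]
    exact hv.2 j₀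
  let D := hbad.toFinset
  have hD : ∀ v, v ∈ D ↔ v ∉ Sf ∧ ∀ j, v.valuation k (aeval A (F j)) < 1 := fun v => hbad.mem_toFinset
  have hAgood : ∀ v, v ∉ Sf → v ∉ D → ∃ j, v.valuation k (aeval A (F j)) = 1 := fun v hv hvD => by
    by_contra hc
    push Not at hc
    exact hvD ((hD v).mpr ⟨hv, fun j => lt_of_le_of_ne
      (val_aeval_le_one (v.valuation k) (hOk v) (f j) (hAint v hv)) (hc j)⟩)
  have hTD : ∀ v ∈ T, v ∉ D := fun v hv hvD => by
    obtain ⟨j, hj⟩ := (hAT v hv).2.2
    rw [haeval, v_algebraMap] at hj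
    exact (((hD v).mp hvD).2 j).ne hj
  -- good reductions at the bad places
  choose R hR hRj using hne
  have happ : ∀ (v : HeightOneSpectrum (𝓞 k)) (i : Fin n), ∃ y : k, ∀ hv : v ∉ Sf,
      Valued.v (algebraMap k (v.adicCompletion k) y - R v hv i) < 1 := fun v i => by
    by_cases hv : v ∉ Sf
    · obtain ⟨y, hy⟩ := (HeightOneSpectrum.denseRange_algebraMap k v).exists_mem_open
        (isOpen_v_lt_one v (R v hv i)) ⟨R v hv i, by simp⟩
      exact ⟨y, fun _ => hy⟩
    · exact ⟨0, fun h => absurd h hv⟩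
  choose y hy using happ
  have hC : ∀ i, ∃ x : k, (∀ v, v ∉ D → v.valuation k x ≤ 1) ∧
      ∀ v ∈ D, v.valuation k (x - (y v i - A i)) ≤ exp (-((1 : ℕ) : ℤ)) := fun i =>
    exists_near_finite D (fun v => y v i - A i) 1
  choose C hC1 hC2 using hC
  obtain ⟨μ, hμ0, hμ⟩ := exists_valuation_le D 1
  have hexp : exp (-((1 : ℕ) : ℤ)) < (1 : ℤᵐ⁰) := by rw [← exp_zero, exp_lt_exp]; norm_num
  obtain ⟨h, h0, hh⟩ := exists_direction_polynomial F hcodim A ⟨j₀, hj₀⟩
  obtain ⟨B, hB, hBh⟩ : ∃ B : Fin n → k,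
      (∀ i, ∃ a : ℕ, B i = C i + (μ : k) * a) ∧ eval B h ≠ 0 := by
    by_contra hc
    push Not at hc
    refine h0 (MvPolynomial.funext_set (fun i => Set.range fun a : ℕ => C i + (μ : k) * a) (fun i => ?_) ?_)
    · refine Set.infinite_range_of_injective fun a b hab => ?_
      exact Nat.cast_injective (mul_left_cancel₀ (RingOfIntegers.coe_ne_zero_iff.mpr hμ0) (add_left_cancel hab))
    · intro x hx
      rw [map_zero]
      exact hc x fun i => by obtain ⟨a, ha⟩ := hx i (Set.mem_univ i); exact ⟨a, ha.symm⟩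
  have hnat : ∀ (v : HeightOneSpectrum (𝓞 k)) (a : ℕ), v.valuation k (a : k) ≤ 1 := fun v a => by
    rw [← map_natCast (algebraMap (𝓞 k) k)]; exact v.valuation_le_one _
  have hBD : ∀ v ∈ D, ∀ i, v.valuation k (A i + B i - y v i) < 1 := fun v hv i => by
    obtain ⟨a, ha⟩ := hB i
    rw [ha, show A i + (C i + (μ : k) * a) - y v i = (C i - (y v i - A i)) + (μ : k) * a by ring]
    refine Valuation.map_add_lt _ ((hC2 i v hv).trans_lt hexp) ?_
    rw [map_mul]
    exact (mul_le_of_le_one_right' (hnat v a)).trans_lt ((hμ v hv).trans_lt hexp)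
  have hyint : ∀ v ∈ D, ∀ i, v.valuation k (y v i) ≤ 1 := fun v hv i => by
    have hvS := ((hD v).mp hv).1
    rw [← v_algebraMap, ← sub_add_cancel (algebraMap k (v.adicCompletion k) (y v i)) (R v hvS i)]
    exact Valuation.map_add_le _ (hy v i hvS).le ((HeightOneSpectrum.mem_adicCompletionIntegers (𝓞 k) k v).mp (hR v hvS i))
  have hBint : ∀ v, v ∉ Sf → ∀ i, v.valuation k (B i) ≤ 1 := fun v hv i => by
    obtain ⟨a, ha⟩ := hB i
    rw [ha]
    refine Valuation.map_add_le _ ?_ (by rw [map_mul]; exact mul_le_one' (v.valuation_le_one μ) (hnat v a))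
    by_cases hvD : v ∈ D
    · rw [show C i = (C i - (y v i - A i)) + (y v i - A i) by ring]
      exact Valuation.map_add_le _ ((hC2 i v hvD).trans hexp.le)
        (Valuation.map_sub_le _ (hyint v hvD i) (hAint v hv i))
    · exact hC1 i v hvD
  let g : Fin m → Polynomial k := fun j =>
    aeval (fun i => Polynomial.C (A i) + Polynomial.X * Polynomial.C (B i)) (F j)
  have hg : Ideal.span (Set.range g) = ⊤ := hh B hBh
  obtain ⟨c, hc⟩ := (Ideal.mem_span_range_iff_exists_fun (v := g) (x := 1)).mp (hg ▸ Submodule.mem_top)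
  have hEfin : (⋃ j, ⋃ e ∈ (c j).support, HeightOneSpectrum.Support (𝓞 k) ((c j).coeff e)).Finite :=
    Set.finite_iUnion fun j => (c j).support.finite_toSet.biUnion fun e _ => HeightOneSpectrum.Support.finite _ _
  let E := hEfin.toFinset.filter (fun v => v ∉ Sf)
  -- the parameter on the line
  let S₂ := Sf.erase v₀ ∪ T ∪ D ∪ E
  let L : (v : HeightOneSpectrum (𝓞 k)) → v.adicCompletion k → (Fin n → v.adicCompletion k) := fun v τ i =>
    algebraMap k (v.adicCompletion k) (A i) + τ * algebraMap k (v.adicCompletion k) (B i)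
  have hL : ∀ v, Continuous (L v) := fun v =>
    continuous_pi fun i => continuous_const.add (continuous_id.mul continuous_const)
  have hL0 : ∀ v, L v 0 = fun i => algebraMap k (v.adicCompletion k) (A i) := fun v => funext fun i => by simp [L]
  let U₂ : (v : HeightOneSpectrum (𝓞 k)) → Set (v.adicCompletion k) := fun v =>
    if v ∈ T then L v ⁻¹' W v ∩ {τ | Valued.v (τ - 0) < 1}
    else if v ∈ D then {τ | Valued.v (τ - 1) < 1}
    else if v ∈ Sf then L v ⁻¹' Nf v
    else {τ | Valued.v (τ - 0) < 1}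
  have hS₂ : v₀ ∉ S₂ := by
    simp only [S₂, E, Finset.mem_union, Finset.mem_filter, not_or]
    exact ⟨⟨⟨Finset.notMem_erase _ _, fun h => hSfT v₀ hv₀ h⟩, fun h => ((hD v₀).mp h).1 hv₀⟩, fun h => h.2 hv₀⟩
  have hU₂ : ∀ v ∈ S₂, IsOpen (U₂ v) ∧ (U₂ v).Nonempty := fun v hv => by
    simp only [U₂]
    split_ifs with h1 h2 h3
    · refine ⟨((hW v h1).1.preimage (hL v)).inter (isOpen_v_lt_one v 0), 0, ?_, by simp⟩
      show L v 0 ∈ W v
      rw [hL0]; exact (hAT v h1).1
    · exact ⟨isOpen_v_lt_one v 1, 1, by simp⟩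
    · have h0 : v ≠ v₀ := fun h => hS₂ (h ▸ hv)
      refine ⟨(hNf v h3 h0).1.preimage (hL v), 0, ?_⟩
      show L v 0 ∈ Nf v
      rw [hL0]
      have := hA2 v (Finset.mem_union_left _ (Finset.mem_erase.mpr ⟨h0, h3⟩))
      simpa [U₁, h1] using this
    · exact ⟨isOpen_v_lt_one v 0, 0, by simp⟩
  let Li : (w : InfinitePlace k) → w.Completion → (Fin n → w.Completion) := fun w τ i =>
    algebraMap k w.Completion (A i) + τ * algebraMap k w.Completion (B i)
  obtain ⟨t, ht1, ht2, ht3⟩ := strongApprox v₀ S₂ hS₂ U₂ hU₂ (fun w => Li w ⁻¹' Ni w) (fun w => by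
    refine ⟨(hNi w).1.preimage (continuous_pi fun i => continuous_const.add (continuous_id.mul continuous_const)), 0, ?_⟩
    show Li w 0 ∈ Ni w
    simpa [Li] using (hA3 w).1)
  refine ⟨fun i => A i + t * B i, fun v hv => ?_, fun v hv hv' => ?_, fun w => ?_, fun v hv => ?_⟩
  · have ht01 : (v ∈ T ∪ E ∧ v ∉ D → v.valuation k t < 1) ∧ (v ∈ D → v.valuation k (t - 1) < 1) := by
      refine ⟨fun h => ?_, fun h => ?_⟩
      · have := ht2 v (by simp only [S₂, Finset.mem_union] at h ⊢; tauto)
        by_cases hvT : v ∈ T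
        · simp only [U₂, if_pos hvT] at this
          simpa [v_algebraMap] using this.2
        · simp only [U₂, if_neg hvT, if_neg h.2, if_neg hv] at this
          simpa [v_algebraMap] using this
      · have := ht2 v (by simp only [S₂, Finset.mem_union]; tauto)
        have hvT : v ∉ T := fun hvT => hTD v hvT h
        simp only [U₂, if_neg hvT, if_pos h] at this
        rwa [Set.mem_ofPred_eq, ← map_one (algebraMap k (v.adicCompletion k)), ← map_sub, v_algebraMap] at this
    have htint : v.valuation k t ≤ 1 := by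
      by_cases hvD : v ∈ D
      · rw [← sub_add_cancel t 1]; exact Valuation.map_add_le _ (ht01.2 hvD).le (map_one _).le
      · by_cases hvTE : v ∈ T ∪ E
        · exact (ht01.1 ⟨hvTE, hvD⟩).le
        · refine ht1 v (fun h => ?_) (fun h => hv (h ▸ hv₀))
          simp only [S₂, Finset.mem_union, Finset.mem_erase, not_or] at h hvTE
          tauto
    have hPint : ∀ i, v.valuation k (A i + t * B i) ≤ 1 := fun i =>
      Valuation.map_add_le _ (hAint v hv i) (by rw [map_mul]; exact mul_le_one' htint (hBint v hv i))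
    refine ⟨hPint, ?_⟩
    by_cases hvD : v ∈ D
    · have key := exists_eq_one_of_close (Valued.v : Valuation (v.adicCompletion k) ℤᵐ⁰) (hO v) f
        (x := fun i => algebraMap k (v.adicCompletion k) (A i + t * B i)) (y := R v hv)
        (fun i => by rw [v_algebraMap]; exact hPint i)
        (fun i => (HeightOneSpectrum.mem_adicCompletionIntegers (𝓞 k) k v).mp (hR v hv i))
        (fun i => by
          rw [show A i + t * B i = (A i + B i - y v i + (t - 1) * B i) + y v i by ring, map_add, add_sub_assoc]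
          refine Valuation.map_add_lt _ ?_ (hy v i hv)
          rw [v_algebraMap]
          refine Valuation.map_add_lt _ (hBD v hvD i) ?_
          rw [map_mul]
          exact (mul_le_of_le_one_right' (hBint v hv i)).trans_lt (ht01.2 hvD))
        (hRj v hv)
      obtain ⟨j, hj⟩ := key
      refine ⟨j, ?_⟩
      rwa [haeval, v_algebraMap] at hj
    · by_cases hvTE : v ∈ T ∪ E
      · exact exists_eq_one_of_close (v.valuation k) (hOk v) f hPint (hAint v hv) (fun i => by
          rw [add_sub_cancel_left, map_mul]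
          exact (mul_le_of_le_one_right' (hBint v hv i)).trans_lt (ht01.1 ⟨hvTE, hvD⟩)) (hAgood v hv hvD)
      · by_contra hc'
        push Not at hc'
        have hlt : ∀ j, v.valuation k (aeval (fun i => A i + t * B i) (F j)) < 1 := fun j =>
          lt_of_le_of_ne (val_aeval_le_one (v.valuation k) (hOk v) (f j) hPint) (hc' j)
        have hgt : ∀ j, Polynomial.aeval t (g j) = aeval (fun i => A i + t * B i) (F j) := fun j => by
          rw [← AlgHom.comp_apply, comp_aeval]
          congr 2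
          funext i
          simp
          ring
        have hcle : ∀ j, v.valuation k (Polynomial.aeval t (c j)) ≤ 1 := fun j => by
          rw [Polynomial.aeval_eq_sum_range' (Nat.lt_succ_self _)]
          refine Valuation.map_sum_le _ fun e _ => ?_
          rw [smul_eq_mul, map_mul, map_pow]
          refine mul_le_one' ?_ (pow_le_one' htint e)
          by_cases he : e ∈ (c j).support
          · refine not_lt.mp fun hlt' => hvTE (Finset.mem_union_right _ (Finset.mem_filter.mpr ⟨?_, hv⟩))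
            exact hEfin.mem_toFinset.mpr (Set.mem_iUnion.mpr ⟨j, Set.mem_biUnion he hlt'⟩)
          · rw [Polynomial.notMem_support_iff.mp he, map_zero]; exact zero_le
        have h1 := congrArg (fun p => v.valuation k (Polynomial.aeval t p)) hc
        simp only [map_sum, map_mul, map_one, hgt] at h1
        refine (Valuation.map_sum_lt _ one_ne_zero fun j _ => ?_).ne h1
        rw [map_mul]
        exact (mul_le_of_le_one_left' (hcle j)).trans_lt (hlt j)
  · have hmem : v ∈ Sf.erase v₀ := Finset.mem_erase.mpr ⟨hv', hv⟩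
    have := ht2 v (by simp only [S₂, Finset.mem_union]; tauto)
    have hvD : v ∉ D := fun h => ((hD v).mp h).1 hv
    simp only [U₂, if_neg (hSfT v hv), if_neg hvD, if_pos hv] at this
    simpa [L] using this
  · have := ht3 w
    simpa only [Li, map_add, map_mul, Set.mem_preimage] using this
  · have := ht2 v (by simp only [S₂, Finset.mem_union]; tauto)
    simp only [U₂, if_pos hv] at this
    simpa [L] using this.1

end main

end GrothLib.StrongApproxNF28
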