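import Groth.Agent.Lib.StrongApproxNF28.Small
import Mathlib.NumberTheory.NumberField.InfiniteAdeleRing
import Mathlib.RingTheory.DedekindDomain.FiniteAdeleRing
import Mathlib.RingTheory.DedekindDomain.Ideal.Lemmas

/-!
# Strong approximation for number fields, away from a finite place
-/

set_option linter.style.haveILetI false

universe u

open NumberField IsDedekindDomain WithZero

namespace GrothLib.StrongApproxNF28

variable {k : Type u} [Field k] [NumberField k]

theorem exists_valuation_le (S : Finset (HeightOneSpectrum (𝓞 k))) (N : ℕ) :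
    ∃ μ : 𝓞 k, μ ≠ 0 ∧ ∀ v ∈ S, v.valuation k (μ : k) ≤ exp (-(N : ℤ)) := by
  classical
  have h : ∀ v : HeightOneSpectrum (𝓞 k), ∃ a ∈ v.asIdeal, a ≠ 0 := fun v =>
    Submodule.exists_mem_ne_zero_of_ne_bot v.ne_bot
  choose a ha ha0 using h
  refine ⟨(∏ v ∈ S, a v) ^ N, pow_ne_zero _ (Finset.prod_ne_zero_iff.mpr fun v _ => ha0 v), fun v hv => ?_⟩
  rw [HeightOneSpectrum.valuation_of_algebraMap, HeightOneSpectrum.intValuation_le_pow_iff_mem]
  exact Ideal.pow_mem_pow (Ideal.mem_of_dvd _ (Finset.dvd_prod_of_mem a hv) (ha v)) N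

omit [NumberField k] in
theorem exists_ball_subset [NumberField k] {v : HeightOneSpectrum (𝓞 k)} {U : Set (v.adicCompletion k)}
    (hU : IsOpen U) {x : v.adicCompletion k} (hx : x ∈ U) :
    ∃ N : ℕ, ∀ y, Valued.v (y - x) ≤ exp (-(N : ℤ)) → y ∈ U := by
  obtain ⟨γ, hγ⟩ := Valued.mem_nhds.mp (hU.mem_nhds hx)
  have hne : MonoidWithZeroHom.ValueGroup₀.embedding γ.1 ≠ 0 := fun h => γ.ne_zero
    (MonoidWithZeroHom.ValueGroup₀.embedding_strictMono.injective (h.trans (map_zero _).symm))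
  refine ⟨(1 - log (MonoidWithZeroHom.ValueGroup₀.embedding γ.1)).toNat, fun y hy => hγ ?_⟩
  rw [Set.mem_ofPred_eq, Valuation.restrict_lt_iff_lt_embedding]
  refine hy.trans_lt ?_
  conv_rhs => rw [← exp_log hne]
  rw [exp_lt_exp]
  omega

/-- Simultaneous approximation at finitely many finite places by an element integral elsewhere. -/
theorem exists_near_finite (S : Finset (HeightOneSpectrum (𝓞 k))) (y : HeightOneSpectrum (𝓞 k) → k) (N : ℕ) :
    ∃ x : k, (∀ v, v ∉ S → v.valuation k x ≤ 1) ∧ ∀ v ∈ S, v.valuation k (x - y v) ≤ exp (-(N : ℤ)) := by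
  classical
  obtain ⟨D, hD⟩ := IsLocalization.exist_integer_multiples (nonZeroDivisors (𝓞 k)) S y
  have hD0 : (D : 𝓞 k) ≠ 0 := nonZeroDivisors.ne_zero D.2
  have hDk : ((D : 𝓞 k) : k) ≠ 0 := RingOfIntegers.coe_ne_zero_iff.mpr hD0
  choose c hc using hD
  have hfin := HeightOneSpectrum.Support.finite (𝓞 k) ((D : 𝓞 k) : k)⁻¹
  let S' := S ∪ hfin.toFinset
  let e : HeightOneSpectrum (𝓞 k) → ℕ := fun v =>
    N + ((- log (v.valuation k ((D : 𝓞 k) : k))).toNat)
  obtain ⟨z, hz⟩ := IsDedekindDomain.exists_forall_sub_mem_ideal (s := S')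
    (fun v : HeightOneSpectrum (𝓞 k) => v.asIdeal) e (fun v _ => v.prime)
    (fun v _ w _ hvw h => hvw (HeightOneSpectrum.ext h)) (fun v => if h : v.1 ∈ S then c v.1 h else 0)
  refine ⟨(z : k) / ((D : 𝓞 k) : k), fun v hv => ?_, fun v hv => ?_⟩
  · by_cases hvD : v ∈ hfin.toFinset
    · have h := hz v (Finset.mem_union_right _ hvD)
      simp only [dif_neg hv, sub_zero] at h
      rw [← HeightOneSpectrum.intValuation_le_pow_iff_mem, ← v.valuation_of_algebraMap (K := k)] at h
      rw [map_div₀, div_le_one₀ (zero_lt_iff.mpr ((Valuation.ne_zero_iff (v.valuation k)).mpr hDk))]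
      refine h.trans ?_
      rw [← exp_log ((Valuation.ne_zero_iff (v.valuation k)).mpr hDk), exp_le_exp]
      simp only [e]
      omega
    · rw [Set.Finite.mem_toFinset] at hvD
      have h1 : v.valuation k ((D : 𝓞 k) : k)⁻¹ ≤ 1 := not_lt.mp hvD
      rw [div_eq_mul_inv, map_mul]
      exact mul_le_one' (v.valuation_le_one z) h1
  · have h := hz v (Finset.mem_union_left _ hv)
    simp only [dif_pos hv] at h
    rw [← HeightOneSpectrum.intValuation_le_pow_iff_mem, ← v.valuation_of_algebraMap (K := k)] at h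
    have hc' : algebraMap (𝓞 k) k (c v hv) = ((D : 𝓞 k) : k) * y v := by
      rw [hc v hv]; exact Algebra.smul_def (D : 𝓞 k) (y v)
    have : (z : k) / ((D : 𝓞 k) : k) - y v = algebraMap (𝓞 k) k (z - c v hv) / ((D : 𝓞 k) : k) := by
      rw [map_sub, hc']; field_simp
    rw [this, map_div₀, div_le_iff₀ (zero_lt_iff.mpr ((Valuation.ne_zero_iff (v.valuation k)).mpr hDk))]
    refine h.trans ?_
    rw [← exp_log ((Valuation.ne_zero_iff (v.valuation k)).mpr hDk), ← exp_add, exp_le_exp]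
    simp only [e]
    omega

theorem norm_algebraMap (w : InfinitePlace k) (x : k) : ‖algebraMap k w.Completion x‖ = w x := by
  rw [InfinitePlace.Completion.algebraMap_apply, InfinitePlace.Completion.norm_coe]; rfl

/-- An element integral outside `v₀`, small at given finite places, near a given element at all infinite places. -/
theorem exists_near_infinite (v₀ : HeightOneSpectrum (𝓞 k)) (S : Finset (HeightOneSpectrum (𝓞 k)))
    (hv₀ : v₀ ∉ S) (x₀ : k) (N : ℕ) (ε : ℝ) (hε : 0 < ε) :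
    ∃ x : k, (∀ v, v ≠ v₀ → v.valuation k x ≤ 1) ∧ (∀ v ∈ S, v.valuation k x ≤ exp (-(N : ℤ))) ∧
      ∀ w : InfinitePlace k, w (x₀ - x) < ε := by
  classical
  obtain ⟨q, hq0, hqv, hqw⟩ := exists_small v₀
  obtain ⟨μ, hμ0, hμv⟩ := exists_valuation_le S N
  have hμk : (μ : k) ≠ 0 := RingOfIntegers.coe_ne_zero_iff.mpr hμ0
  let b := integralBasis k
  let C : InfinitePlace k → ℝ := fun w => w (μ : k) * ∑ i, w (b i)
  have hC : ∀ w, 0 ≤ C w := fun w =>
    mul_nonneg (apply_nonneg _ _) (Finset.sum_nonneg fun i _ => apply_nonneg _ _)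
  have hj : ∀ w, ∃ j : ℕ, ∀ i, j ≤ i → w q ^ i * C w < ε := fun w => by
    have ht : Filter.Tendsto (fun i : ℕ => w q ^ i * C w) Filter.atTop (nhds 0) := by
      simpa using (tendsto_pow_atTop_nhds_zero_of_lt_one (apply_nonneg _ _) (hqw w)).mul_const (C w)
    exact Filter.eventually_atTop.mp (ht.eventually (gt_mem_nhds hε))
  choose j hj using hj
  let J := ∑ w, j w
  let r : Module.Free.ChooseBasisIndex ℤ (𝓞 k) → ℚ := fun i => b.repr (x₀ / (q ^ J * μ)) i
  refine ⟨q ^ J * μ * ∑ i, ((⌊r i⌋ : ℤ) : k) * b i, fun v hv => ?_, fun v hv => ?_, fun w => ?_⟩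
  rotate_left 2
  · have hx : x₀ = q ^ J * μ * ∑ i, (r i : k) * b i := by
      have := b.sum_repr (x₀ / (q ^ J * μ))
      rw [eq_div_iff (mul_ne_zero (pow_ne_zero _ hq0) hμk)] at this
      rw [mul_comm]
      refine this.symm.trans (congrArg (· * (q ^ J * (μ : k))) (Finset.sum_congr rfl fun i _ => ?_))
      rw [Algebra.smul_def, eq_ratCast]
    rw [hx, ← mul_sub, ← Finset.sum_sub_distrib, map_mul, map_mul, map_pow, mul_assoc]
    refine lt_of_le_of_lt ?_ (hj w J (Finset.single_le_sum (fun i _ => Nat.zero_le (j i)) (Finset.mem_univ w)))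
    refine mul_le_mul_of_nonneg_left (mul_le_mul_of_nonneg_left ?_ (apply_nonneg _ _)) (pow_nonneg (apply_nonneg _ _) _)
    refine (Finset.univ.le_sum_of_subadditive (fun y => w y) (map_zero w).le (fun a c => w.1.add_le a c) _).trans
      (Finset.sum_le_sum fun i _ => ?_)
    rw [← sub_mul, map_mul]
    refine mul_le_of_le_one_left (apply_nonneg _ _) ?_
    rw [show (r i : k) - ((⌊r i⌋ : ℤ) : k) = ((Int.fract (r i) : ℚ) : k) by rw [Int.fract]; push_cast; ring,
      ← InfinitePlace.norm_embedding_eq, map_ratCast, Complex.norm_ratCast]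
    rw [abs_of_nonneg (by exact_mod_cast Int.fract_nonneg _)]
    exact_mod_cast (Int.fract_lt_one _).le
  all_goals
    have hsum : v.valuation k (∑ i, ((⌊r i⌋ : ℤ) : k) * b i) ≤ 1 := by
      refine Valuation.map_sum_le _ fun i _ => ?_
      rw [map_mul, show ((⌊r i⌋ : ℤ) : k) = algebraMap (𝓞 k) k (⌊r i⌋ : ℤ) by simp,
        show b i = algebraMap (𝓞 k) k (RingOfIntegers.basis k i) from integralBasis_apply k i]
      exact mul_le_one' (v.valuation_le_one _) (v.valuation_le_one _)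
  · rw [map_mul, map_mul, map_pow]
    exact mul_le_one' (mul_le_one' (pow_le_one' (hqv v hv) J) (v.valuation_le_one μ)) hsum
  · rw [map_mul, map_mul, map_pow]
    refine (mul_le_of_le_one_right' hsum).trans ((mul_le_of_le_one_left' (pow_le_one' (hqv v ?_) J)).trans (hμv v hv))
    exact fun h => hv₀ (h ▸ hv)

/-- Strong approximation away from a finite place. -/
theorem strongApprox (v₀ : HeightOneSpectrum (𝓞 k)) (S : Finset (HeightOneSpectrum (𝓞 k))) (hv₀ : v₀ ∉ S)
    (Uf : (v : HeightOneSpectrum (𝓞 k)) → Set (v.adicCompletion k))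
    (hUf : ∀ v ∈ S, IsOpen (Uf v) ∧ (Uf v).Nonempty)
    (Ui : (w : InfinitePlace k) → Set w.Completion) (hUi : ∀ w, IsOpen (Ui w) ∧ (Ui w).Nonempty) :
    ∃ x : k, (∀ v, v ∉ S → v ≠ v₀ → v.valuation k x ≤ 1) ∧
      (∀ v ∈ S, algebraMap k (v.adicCompletion k) x ∈ Uf v) ∧ ∀ w, algebraMap k w.Completion x ∈ Ui w := by
  classical
  have hfin : ∀ v, ∃ y : k, ∃ N : ℕ, v ∈ S → ∀ z : k, v.valuation k (z - y) ≤ exp (-(N : ℤ)) →
      algebraMap k (v.adicCompletion k) z ∈ Uf v := fun v => by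
    by_cases hv : v ∈ S
    · obtain ⟨hop, hne⟩ := hUf v hv
      obtain ⟨y, hy⟩ := (HeightOneSpectrum.denseRange_algebraMap k v).exists_mem_open hop hne
      obtain ⟨N, hN⟩ := exists_ball_subset hop hy
      refine ⟨y, N, fun _ z hz => hN _ ?_⟩
      rw [← map_sub, HeightOneSpectrum.algebraMap_adicCompletion, Function.comp_apply,
        HeightOneSpectrum.valuedAdicCompletion_eq_valuation']
      exact hz
    · exact ⟨0, 0, fun h => absurd h hv⟩
  choose y N hyN using hfin
  let N' := S.sup N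
  obtain ⟨x₁, hx₁, hx₁S⟩ := exists_near_finite S y N'
  obtain ⟨x₀, hx₀⟩ := (InfiniteAdeleRing.denseRange_algebraMap k).exists_mem_open
    (isOpen_set_pi Set.finite_univ fun w _ => (hUi w).1)
    ⟨fun w => (hUi w).2.some, fun w _ => (hUi w).2.some_mem⟩
  have hε : ∀ w : InfinitePlace k, ∃ ε > (0 : ℝ), Metric.ball (algebraMap k w.Completion x₀) ε ⊆ Ui w :=
    fun w => Metric.isOpen_iff.mp (hUi w).1 _ (hx₀ w (Set.mem_univ w))
  choose ε hεpos hεsub using hε
  obtain ⟨ε', hε', hεle⟩ : ∃ ε' > (0 : ℝ), ∀ w, ε' ≤ ε w := by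
    obtain ⟨w, -, hw⟩ := Finset.exists_min_image Finset.univ ε Finset.univ_nonempty
    exact ⟨ε w, hεpos w, fun w' => hw w' (Finset.mem_univ w')⟩
  obtain ⟨d, hd1, hdS, hdw⟩ := exists_near_infinite v₀ S hv₀ (x₀ - x₁) N' ε' hε'
  refine ⟨x₁ + d, fun v hv hv' => Valuation.map_add_le _ (hx₁ v hv) (hd1 v hv'), fun v hv => ?_, fun w => ?_⟩
  · refine hyN v hv _ ?_
    have hle : exp (-(N' : ℤ)) ≤ exp (-(N v : ℤ)) := by
      rw [exp_le_exp]; have := Finset.le_sup (f := N) hv; omega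
    rw [show x₁ + d - y v = x₁ - y v + d by ring]
    exact (Valuation.map_add_le _ (hx₁S v hv) (hdS v hv)).trans hle
  · refine hεsub w ?_
    rw [Metric.mem_ball, dist_comm, dist_eq_norm, ← map_sub, norm_algebraMap,
      show x₀ - (x₁ + d) = x₀ - x₁ - d by ring]
    exact (hdw w).trans_le (hεle w)

end GrothLib.StrongApproxNF28
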