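import Mathlib.NumberTheory.NumberField.CanonicalEmbedding.ConvexBody
import Mathlib.NumberTheory.NumberField.ClassNumber
import Mathlib.NumberTheory.NumberField.Norm
import Mathlib.RingTheory.DedekindDomain.AdicValuation

/-!
# Elements of a number field integral outside one place and small at all infinite places
-/

set_option linter.style.haveILetI false

universe u

open NumberField IsDedekindDomain MeasureTheory
open scoped nonZeroDivisors NNReal ENNReal

namespace GrothLib.StrongApproxNF28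

variable {k : Type u} [Field k] [NumberField k]

theorem exists_generator_pow (v₀ : HeightOneSpectrum (𝓞 k)) :
    ∃ π₀ : 𝓞 k, π₀ ≠ 0 ∧ 2 ≤ (Ideal.span {π₀}).absNorm ∧
      ∀ v : HeightOneSpectrum (𝓞 k), v ≠ v₀ → π₀ ∉ v.asIdeal := by
  let I : (Ideal (𝓞 k))⁰ := ⟨v₀.asIdeal, mem_nonZeroDivisors_of_ne_zero v₀.ne_bot⟩
  let h := Fintype.card (ClassGroup (𝓞 k))
  have hp : ((I ^ h : (Ideal (𝓞 k))⁰) : Ideal (𝓞 k)).IsPrincipal := by
    rw [← ClassGroup.mk0_eq_one_iff (I ^ h).2]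
    show ClassGroup.mk0 (I ^ h) = 1
    rw [map_pow, pow_card_eq_one]
  obtain ⟨π₀, hπ₀⟩ := hp.principal
  have hπ : v₀.asIdeal ^ h = Ideal.span {π₀} := by rw [← Ideal.submodule_span_eq, ← hπ₀]; rfl
  refine ⟨π₀, fun h0 => ?_, ?_, fun v hv hmem => ?_⟩
  · rw [h0] at hπ
    exact pow_ne_zero h v₀.ne_bot (by simpa using hπ)
  · rw [← hπ, map_pow]
    have h1 : v₀.asIdeal.absNorm ≠ 1 := fun h1 => v₀.isPrime.ne_top (Ideal.absNorm_eq_one_iff.mp h1)
    have h0 : v₀.asIdeal.absNorm ≠ 0 := fun h0 => v₀.ne_bot (Ideal.absNorm_eq_zero_iff.mp h0)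
    calc 2 ≤ v₀.asIdeal.absNorm := by omega
      _ ≤ _ := Nat.le_self_pow Fintype.card_ne_zero _
  · have : v₀.asIdeal ^ h ≤ v.asIdeal := hπ ▸ (Ideal.span_singleton_le_iff_mem _).mpr hmem
    exact hv (HeightOneSpectrum.ext ((v₀.isMaximal.eq_of_le v.isPrime.ne_top (Ideal.IsPrime.le_of_pow_le this)).symm))

/-- There is a nonzero element, integral outside `v₀`, of absolute value less than one at every infinite place. -/
theorem exists_small (v₀ : HeightOneSpectrum (𝓞 k)) :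
    ∃ q : k, q ≠ 0 ∧ (∀ v : HeightOneSpectrum (𝓞 k), v ≠ v₀ → v.valuation k q ≤ 1) ∧
      ∀ w : InfinitePlace k, w q < 1 := by
  classical
  obtain ⟨π₀, hπ0, hN, hπv⟩ := exists_generator_pow v₀
  let c : ℝ≥0∞ := (mixedEmbedding.convexBodyLTFactor k : ℝ≥0∞)
  let B := mixedEmbedding.minkowskiBound k ↑1
  have hc : c ≠ 0 := ENNReal.coe_ne_zero.mpr (mixedEmbedding.convexBodyLTFactor_ne_zero k)
  have hB : B / c ≠ ⊤ := ENNReal.div_ne_top (mixedEmbedding.minkowskiBound_lt_top k 1).ne hc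
  obtain ⟨M, hM⟩ : ∃ M : ℕ, B / c < ((Ideal.span {π₀}).absNorm : ℝ≥0∞) ^ M := by
    obtain ⟨m, hm⟩ := ENNReal.exists_nat_gt hB
    refine ⟨m, hm.trans_le ?_⟩
    have : (m : ℕ) ≤ (Ideal.span {π₀}).absNorm ^ m := (Nat.lt_pow_self (by omega)).le
    exact_mod_cast this
  let f : InfinitePlace k → ℝ≥0 := fun w => Real.toNNReal (w ((π₀ : k) ^ M))
  have hprod : ((∏ w, f w ^ w.mult : ℝ≥0) : ℝ≥0∞) = ((Ideal.span {π₀}).absNorm : ℝ≥0∞) ^ M := by
    rw [← Nat.cast_pow, ← ENNReal.coe_natCast, ENNReal.coe_inj, ← NNReal.coe_inj, NNReal.coe_prod]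
    simp only [NNReal.coe_pow, NNReal.coe_natCast, f, Real.coe_toNNReal _ (apply_nonneg _ _)]
    rw [InfinitePlace.prod_eq_abs_norm, map_pow, ← Algebra.coe_norm_int, Ideal.absNorm_span_singleton]
    push_cast
    rw [abs_pow, Nat.cast_natAbs]
    simp
  obtain ⟨a, ha, hlt⟩ := mixedEmbedding.exists_ne_zero_mem_ringOfIntegers_lt k (f := f) (by
    rw [mixedEmbedding.convexBodyLT_volume, hprod, mul_comm]
    exact (ENNReal.div_lt_iff (Or.inl hc) (Or.inl ENNReal.coe_ne_top)).mp hM)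
  have hπk : (π₀ : k) ≠ 0 := RingOfIntegers.coe_ne_zero_iff.mpr hπ0
  refine ⟨(a : k) / (π₀ : k) ^ M, div_ne_zero (RingOfIntegers.coe_ne_zero_iff.mpr ha) (pow_ne_zero _ hπk),
    fun v hv => ?_, fun w => ?_⟩
  · have h1 : v.valuation k (π₀ : k) = 1 :=
      le_antisymm (v.valuation_le_one π₀) (not_lt.mp fun hlt' => hπv v hv ((v.valuation_lt_one_iff_mem π₀).mp hlt'))
    rw [map_div₀, map_pow, h1, one_pow, div_one]
    exact v.valuation_le_one a
  · rw [map_div₀, div_lt_one (InfinitePlace.pos_iff.mpr (pow_ne_zero M hπk))]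
    exact (hlt w).trans_eq (Real.coe_toNNReal _ (apply_nonneg _ _))

end GrothLib.StrongApproxNF28
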